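import Cfsg.Agent.Lib.FusionP3.Transfer
import Mathlib.GroupTheory.Perm.Cycle.Type

/-!
Thompson transfer for saturated fusion systems, through the sign of the left action on the
right `T`-orbits of a characteristic biset.
-/

set_option autoImplicit false

namespace Cfsg.Agent.Lib.FusionTransfer

open Cfsg Cfsg.FusionSystem Cfsg.Agent.Lib.FS Cfsg.Agent.Lib.FusionP3.Biset MulAction

universe u

variable {Ω : Type u} [Group Ω] {S : Subgroup Ω} {F : FusionSystem S}

theorem normalizerIn_zpowers_of_involution {x : Ω} (hx : x ∈ S) (h2 : orderOf x = 2) :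
    Nat.card (normalizerIn S (Subgroup.zpowers x)) =
      Nat.card (Subgroup.centralizer ({(⟨x, hx⟩ : S)} : Set S)) := by
  rw [← Nat.card_congr (Subgroup.subgroupOfEquivOfLe (normalizerIn_le (S := S) (Subgroup.zpowers x))).toEquiv]
  congr 2
  ext g
  rw [Subgroup.mem_subgroupOf, Subgroup.mem_centralizer_singleton_iff, mem_normalizerIn]
  constructor
  · rintro ⟨-, hg⟩
    have h1 := (hg x).1 (Subgroup.mem_zpowers x)
    obtain ⟨k, hk⟩ := Subgroup.mem_zpowers_iff.1 h1
    rcases Int.even_or_odd k with ⟨j, rfl⟩ | ⟨j, rfl⟩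
    · exfalso
      have : (g : Ω) * x * (g : Ω)⁻¹ = 1 := by
        rw [← hk, ← two_mul, zpow_mul, zpow_ofNat, ← h2, pow_orderOf_eq_one, one_zpow]
      rw [conj_eq_one_iff] at this
      rw [this, orderOf_one] at h2
      omega
    · have : (g : Ω) * x * (g : Ω)⁻¹ = x := by
        rw [← hk, zpow_add, zpow_one, zpow_mul, zpow_ofNat, ← h2, pow_orderOf_eq_one, one_zpow,
          one_mul]
      exact Subtype.ext (mul_inv_eq_iff_eq_mul.1 this)
  · intro hg
    refine ⟨g.2, Subgroup.mem_normalizer_iff.2 fun y => ?_⟩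
    have hc : Commute (g : Ω) x := congrArg Subtype.val hg
    constructor
    · intro hy
      obtain ⟨k, rfl⟩ := Subgroup.mem_zpowers_iff.1 hy
      rw [(hc.zpow_right k).eq, mul_inv_cancel_right]
      exact ⟨k, rfl⟩
    · intro hy
      obtain ⟨k, hk⟩ := Subgroup.mem_zpowers_iff.1 hy
      refine ⟨k, ?_⟩
      have := (hc.zpow_right k).eq
      rw [show y = (g : Ω)⁻¹ * x ^ k * g by rw [hk]; group, mul_assoc, ← this, inv_mul_cancel_left]

section Perm

variable (T : Subgroup S) {X : Type u} [MulAction (S × S) X]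

/-- The subgroup acting on the right by `T`. -/
def rightGroup : Subgroup (S × S) := (⊥ : Subgroup S).prod T

theorem mem_rightGroup {z : S × S} : z ∈ rightGroup T ↔ z.1 = 1 ∧ z.2 ∈ T := by
  simp [rightGroup, Subgroup.mem_prod]

/-- The right orbits. -/
abbrev Orb (X : Type u) [MulAction (S × S) X] := Quotient (orbitRel (rightGroup T) X)

theorem orb_eq_iff {z w : X} :
    (Quotient.mk (orbitRel (rightGroup T) X) z) = Quotient.mk _ w ↔
      ∃ b ∈ T, ((1 : S), b) • w = z := by
  rw [Quotient.eq]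
  constructor
  · rintro ⟨⟨⟨a, b⟩, hab⟩, h⟩
    obtain ⟨rfl, hb⟩ := (mem_rightGroup T).1 hab
    exact ⟨b, hb, h⟩
  · rintro ⟨b, hb, h⟩
    exact ⟨⟨((1 : S), b), (mem_rightGroup T).2 ⟨rfl, hb⟩⟩, h⟩

/-- An equivariant bijection acts on the orbits. -/
def orbMap (e : X ≃ X) (he : ∀ b ∈ T, ∀ z : X, e (((1 : S), b) • z) = ((1 : S), b) • e z) :
    Equiv.Perm (Orb T X) :=
  Quotient.congr e fun z w => by
    constructor
    · rintro ⟨⟨⟨a, b⟩, hab⟩, rfl⟩
      obtain ⟨rfl, hb⟩ := (mem_rightGroup T).1 hab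
      exact ⟨⟨((1 : S), b), hab⟩, (he b hb w).symm⟩
    · rintro ⟨⟨⟨a, b⟩, hab⟩, h⟩
      obtain ⟨rfl, hb⟩ := (mem_rightGroup T).1 hab
      exact ⟨⟨((1 : S), b), hab⟩, e.injective ((he b hb w).trans h)⟩

theorem orbMap_mk (e : X ≃ X) (he : ∀ b ∈ T, ∀ z : X, e (((1 : S), b) • z) = ((1 : S), b) • e z)
    (z : X) : orbMap T e he (Quotient.mk _ z) = Quotient.mk _ (e z) := rfl

/-- The left action on the orbits. -/
def leftPerm : S →* Equiv.Perm (Orb T X) where
  toFun a := orbMap T (MulAction.toPerm ((a, 1) : S × S)) fun b _ z => by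
    show ((a, 1) : S × S) • ((1 : S), b) • z = ((1 : S), b) • ((a, 1) : S × S) • z
    simp only [smul_smul, Prod.mk_mul_mk, one_mul, mul_one]
  map_one' := Equiv.ext fun w => by
    obtain ⟨z, rfl⟩ := Quotient.exists_rep w
    rw [orbMap_mk]
    show Quotient.mk _ ((1 : S × S) • z) = _
    rw [one_smul]
    rfl
  map_mul' a b := Equiv.ext fun w => by
    obtain ⟨z, rfl⟩ := Quotient.exists_rep w
    rw [Equiv.Perm.mul_apply, orbMap_mk, orbMap_mk, orbMap_mk]
    congr 1
    show ((a * b, 1) : S × S) • z = ((a, 1) : S × S) • ((b, 1) : S × S) • z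
    simp only [smul_smul, Prod.mk_mul_mk, one_mul]

theorem leftPerm_mk (a : S) (z : X) :
    leftPerm T a (Quotient.mk _ z) = Quotient.mk _ (((a, 1) : S × S) • z) := rfl

end Perm

theorem isConjElt_of_stab {X : Type u} [MulAction (S × S) X]
    (hg : ∀ z : X, IsGraph F (stabilizer (S × S) z)) {a b : S} {z : X}
    (h : ((a, b) : S × S) • z = z) : F.IsConjElt a b := by
  obtain ⟨P, φ, hφ, y, hy, hyb⟩ := FusionP3.Transfer.exists_of_mem_stab hg h
  have hle : Subgroup.zpowers (a : Ω) ≤ P := by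
    rw [Subgroup.zpowers_le, ← hy]; exact y.2
  obtain ⟨ψ, hψ, he⟩ := exists_restrict hφ hle
  refine ⟨ψ, hψ, ?_⟩
  rw [he]
  exact (congrArg φ (Subtype.ext hy.symm)).trans hyb

theorem isConjElt_trans {x y z : Ω} (h1 : F.IsConjElt x y) (h2 : F.IsConjElt y z) :
    F.IsConjElt x z := by
  obtain ⟨φ, hφ, e1⟩ := h1
  obtain ⟨ψ, hψ, e2⟩ := h2
  obtain ⟨χ, hχ, e⟩ := exists_comp hφ hψ fun w => by
    obtain ⟨k, hk⟩ := Subgroup.mem_zpowers_iff.1 w.2
    rw [show w = (⟨x, Subgroup.mem_zpowers x⟩ : Subgroup.zpowers x) ^ k from Subtype.ext (by simp [hk]),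
      map_zpow, e1]
    exact ⟨k, rfl⟩
  refine ⟨χ, hχ, (e _).trans ?_⟩
  rw [← e2]
  exact congrArg ψ (Subtype.ext e1)

theorem range_eq_zpowers {x : Ω} {φ : Subgroup.zpowers x →* Ω} {y : Ω}
    (h : φ ⟨x, Subgroup.mem_zpowers x⟩ = y) : φ.range = Subgroup.zpowers y := by
  ext w
  constructor
  · rintro ⟨⟨v, hv⟩, rfl⟩
    obtain ⟨k, rfl⟩ := Subgroup.mem_zpowers_iff.1 hv
    refine ⟨k, ?_⟩
    show y ^ k = _
    rw [← h, ← map_zpow]
    rfl
  · intro hw
    obtain ⟨k, rfl⟩ := Subgroup.mem_zpowers_iff.1 hw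
    exact ⟨(⟨x, Subgroup.mem_zpowers x⟩ : Subgroup.zpowers x) ^ k, by rw [map_zpow, h]⟩

theorem orderOf_of_isConjElt {x y : Ω} (h : F.IsConjElt x y) : orderOf y = orderOf x := by
  obtain ⟨φ, hφ, e⟩ := h
  rw [← e, orderOf_injective φ (F.injective_of_mem hφ), ← Subgroup.orderOf_coe]

/-- Thompson transfer: the sign. -/
theorem exists_invariant_sign [Finite S] (hS : IsPGroup 2 S) (hF : F.IsSaturated 2)
    (T : Subgroup S) (hT : T.index = 2) (j : Ω) (hjS : j ∈ S) (hj2 : orderOf j = 2)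
    (hfn : F.IsFullyNormalized (Subgroup.zpowers j))
    (h : ∀ t : S, t ∈ T → F.IsConjElt j t → ¬ F.IsFullyNormalized (Subgroup.zpowers (t : Ω))) :
    ∃ τ : S →* ℤˣ, (∀ (P : Subgroup Ω) (φ : P →* Ω) (hφ : φ ∈ F.Hom P) (x : P),
        τ ⟨φ x, apply_mem hφ x⟩ = τ ⟨x, src_le hφ x.2⟩) ∧ τ ⟨j, hjS⟩ = -1 := by
  classical
  haveI : Fact (Nat.Prime 2) := ⟨Nat.prime_two⟩
  obtain ⟨X, iX, fX, hg, hst, m, hm, hodd⟩ := exists_biset hS hF
  haveI := Fintype.ofFinite (Orb T X)
  refine ⟨Equiv.Perm.sign.comp (leftPerm (X := X) T), fun P φ hφ x => ?_, ?_⟩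
  · obtain ⟨e, he⟩ := FusionP3.Transfer.exists_twist hst hφ
    have heT : ∀ b ∈ T, ∀ z : X, e.1 (((1 : S), b) • z) = ((1 : S), b) • e.1 z := fun b _ z => e.2 b z
    have hconj : orbMap T e.1 heT * leftPerm T ⟨x, src_le hφ x.2⟩ =
        leftPerm T ⟨φ x, apply_mem hφ x⟩ * orbMap T e.1 heT := Equiv.ext fun w => by
      obtain ⟨z, rfl⟩ := Quotient.exists_rep w
      rw [Equiv.Perm.mul_apply, Equiv.Perm.mul_apply, leftPerm_mk, orbMap_mk, orbMap_mk, leftPerm_mk]
      exact congrArg _ (he x 1 z)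
    have := congrArg Equiv.Perm.sign hconj
    rw [map_mul, map_mul, mul_comm] at this
    exact (mul_right_cancel this).symm
  set i : S := ⟨j, hjS⟩
  set σ := leftPerm (X := X) T i
  have hi2 : i ^ 2 = 1 := Subtype.ext (by
    show j ^ 2 = 1
    rw [← hj2, pow_orderOf_eq_one])
  have hσ : σ ^ 2 = 1 := by rw [← map_pow, hi2, map_one]
  -- the orbits parametrise the points
  let Φ : Orb T X × rightGroup T → X := fun wr => wr.2 • wr.1.out
  have hΦq : ∀ wr, Quotient.mk (orbitRel (rightGroup T) X) (Φ wr) = wr.1 := fun wr => by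
    refine Eq.trans (Quotient.sound ?_) wr.1.out_eq
    exact ⟨wr.2, rfl⟩
  have hΦ : Function.Bijective Φ := by
    constructor
    · rintro ⟨w, r⟩ ⟨w', r'⟩ e
      have hw : w = w' := by
        have := congrArg (Quotient.mk (orbitRel (rightGroup T) X)) e
        rw [hΦq, hΦq] at this
        exact this
      subst hw
      refine Prod.ext rfl ?_
      obtain ⟨⟨a, b⟩, hab⟩ := r
      obtain ⟨⟨a', b'⟩, hab'⟩ := r'
      obtain ⟨rfl, -⟩ := (mem_rightGroup T).1 hab
      obtain ⟨rfl, -⟩ := (mem_rightGroup T).1 hab'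
      exact Subtype.ext (Prod.ext rfl (FusionP3.Transfer.free_eq hg e))
    · intro z
      obtain ⟨r, hr⟩ := Quotient.exact (Quotient.out_eq (Quotient.mk (orbitRel (rightGroup T) X) z)).symm
      exact ⟨(Quotient.mk _ z, r), hr⟩
  have hRc : Nat.card (rightGroup T) = Nat.card T := by
    rw [rightGroup, Nat.card_congr (Subgroup.prodEquiv _ _).toEquiv, Nat.card_prod, Subgroup.card_bot,
      one_mul]
  have hST : Nat.card S = Nat.card T * 2 := by rw [← hT, Subgroup.card_mul_index]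
  have hWc : Fintype.card (Orb T X) = 2 * m := by
    have h1 := Nat.card_congr (Equiv.ofBijective Φ hΦ)
    rw [Nat.card_prod, hRc, hm, hST, Nat.card_eq_fintype_card] at h1
    refine Nat.eq_of_mul_eq_mul_right (Nat.card_pos (α := T)) ?_
    rw [h1]; ring
  -- the points over fixed orbits
  set Y : Set X := {z | ∃ b ∈ T, ((i, b) : S × S) • z = z}
  have hYmem : ∀ z, z ∈ Y ↔ σ (Quotient.mk _ z) = Quotient.mk _ z := fun z => by
    rw [leftPerm_mk, orb_eq_iff]
    constructor
    · rintro ⟨b, hb, hz⟩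
      refine ⟨b⁻¹, T.inv_mem hb, ?_⟩
      conv_lhs => rw [← hz]
      simp only [smul_smul, Prod.mk_mul_mk, one_mul, inv_mul_cancel]
    · rintro ⟨b, hb, hz⟩
      refine ⟨b⁻¹, T.inv_mem hb, ?_⟩
      rw [show ((i, b⁻¹) : S × S) = ((1 : S), b⁻¹) * (i, 1) by simp, mul_smul, ← hz, smul_smul,
        Prod.mk_mul_mk, one_mul, inv_mul_cancel, Prod.mk_one_one, one_smul]
  have hY : Nat.card Y = Fintype.card (Function.fixedPoints σ) * Nat.card T := by
    rw [← hRc, ← Nat.card_eq_fintype_card, ← Nat.card_prod]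
    refine (Nat.card_congr (((Equiv.subtypeEquiv (Equiv.ofBijective Φ hΦ)
      (p := fun wr => σ wr.1 = wr.1) (q := (· ∈ Y)) fun wr => ?_)).symm.trans
      (Equiv.prodSubtypeFstEquivSubtypeProd (p := fun w : Orb T X => σ w = w))))
    rw [hYmem, Equiv.ofBijective_apply, hΦq]
  -- orbits of `C(i) × S` on these points
  haveI hTn : T.Normal := Subgroup.normal_of_index_eq_two hT
  set G' : Subgroup (S × S) := (Subgroup.centralizer ({i} : Set S)).prod ⊤
  letI : MulAction G' Y :=
    { smul := fun c z => ⟨(c : S × S) • (z : X), by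
        obtain ⟨b, hb, hz⟩ := z.2
        obtain ⟨⟨c1, c2⟩, hc⟩ := c
        have hc1 : c1 * i = i * c1 := Subgroup.mem_centralizer_singleton_iff.1 (Subgroup.mem_prod.1 hc).1
        refine ⟨c2 * b * c2⁻¹, hTn.conj_mem b hb c2, ?_⟩
        show ((i, c2 * b * c2⁻¹) : S × S) • ((c1, c2) : S × S) • (z : X) = _
        conv_rhs => rw [← hz]
        simp only [smul_smul, Prod.mk_mul_mk, inv_mul_cancel_right, hc1]⟩
      one_smul := fun z => Subtype.ext (one_smul _ (z : X))
      mul_smul := fun a b z => Subtype.ext (mul_smul (a : S × S) (b : S × S) (z : X)) }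
  have hdvd : 2 * Nat.card S ∣ Nat.card Y := by
    rw [Nat.card_congr (selfEquivSigmaOrbitsQuotientStabilizer G' Y)]
    haveI := Fintype.ofFinite (Quotient (orbitRel G' Y))
    rw [Nat.card_sigma]
    refine Finset.dvd_sum fun o _ => ?_
    rw [← Subgroup.index_eq_card]
    suffices key : ∀ y : Y, 2 * Nat.card S ∣ (stabilizer G' y).index from key _
    rintro ⟨z, b, hb, hz⟩
    set L := stabilizer G' (⟨z, b, hb, hz⟩ : Y)
    have hmap : ∀ c : L, ((c : G') : S × S).2 ∈ Subgroup.centralizer ({b} : Set S) := by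
      intro c
      obtain ⟨⟨⟨c1, c2⟩, hc⟩, hL⟩ := c
      have hc1 : c1 * i = i * c1 := Subgroup.mem_centralizer_singleton_iff.1 (Subgroup.mem_prod.1 hc).1
      have hfix : ((c1, c2) : S × S) • z = z := congrArg Subtype.val (mem_stabilizer_iff.1 hL)
      have h1 : ((i, c2 * b * c2⁻¹) : S × S) • z = z := by
        conv_lhs => rw [← hfix, smul_smul, Prod.mk_mul_mk, inv_mul_cancel_right, ← hc1]
        rw [show ((c1 * i, c2 * b) : S × S) = (c1, c2) * (i, b) by rw [Prod.mk_mul_mk], mul_smul, hz,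
          hfix]
      have h2 : ((1 : S), b) • z = ((1 : S), c2 * b * c2⁻¹) • z := by
        have e := h1.trans hz.symm
        have := congrArg (fun w => ((i⁻¹, 1) : S × S) • w) e.symm
        simpa only [smul_smul, Prod.mk_mul_mk, inv_mul_cancel, one_mul] using this
      have h3 := FusionP3.Transfer.free_eq hg h2
      rw [Subgroup.mem_centralizer_singleton_iff]
      show c2 * b = b * c2
      conv_rhs => rw [h3]
      rw [inv_mul_cancel_right]
    have hinj : Function.Injective fun c : L => (⟨_, hmap c⟩ : Subgroup.centralizer ({b} : Set S)) := by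
      intro c d e
      have e' : ((c : G') : S × S).2 = ((d : G') : S × S).2 := congrArg Subtype.val e
      have hcd : ((c : G')⁻¹ * d) ∈ L := L.mul_mem (L.inv_mem c.2) d.2
      have hfix := congrArg Subtype.val (mem_stabilizer_iff.1 hcd)
      set w := (((c : G')⁻¹ * d : G') : S × S)
      have hw2 : w.2 = 1 := by simp [w, e']
      obtain ⟨P, φ, hφ, -, key⟩ := exists_hom_of_isGraph (hg z)
      obtain ⟨h1, h2⟩ := (key w).1 (mem_stabilizer_iff.2 hfix)
      rw [hw2, OneMemClass.coe_one, ← map_one φ] at h2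
      have hw1 : w.1 = 1 := Subtype.ext (congrArg Subtype.val (F.injective_of_mem hφ h2) :)
      apply Subtype.ext
      apply Subtype.ext
      refine Prod.ext ?_ e'
      exact inv_mul_eq_one.1 (by simpa [w] using hw1)
    have hlt : Nat.card L < Nat.card (Subgroup.centralizer ({i} : Set S)) := by
      refine lt_of_le_of_lt (Nat.card_le_card_of_injective _ hinj) (not_le.1 fun hle => ?_)
      have hib : F.IsConjElt j b := isConjElt_of_stab hg hz
      have hb2 : orderOf (b : Ω) = 2 := (orderOf_of_isConjElt hib).trans hj2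
      refine h b hb hib ⟨by rw [Subgroup.zpowers_le]; exact b.2, fun R hR => ?_⟩
      obtain ⟨φ, hφ, e⟩ := hib
      have hR' := hfn.2 R (isConj_trans ⟨φ, hφ, range_eq_zpowers e⟩ hR)
      rw [normalizerIn_zpowers_of_involution hjS hj2] at hR'
      rw [normalizerIn_zpowers_of_involution b.2 hb2]
      exact hR'.trans hle
    haveI : Finite G' := Subtype.finite
    obtain ⟨a, ha⟩ := IsPGroup.iff_card.1
      ((hS.to_subgroup (Subgroup.centralizer ({i} : Set S))))
    have hSS : IsPGroup 2 (S × S) := by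
      obtain ⟨n, hn⟩ := IsPGroup.iff_card.1 hS
      exact IsPGroup.of_card (n := n + n) (by rw [Nat.card_prod, hn, pow_add])
    have hLp : IsPGroup 2 L :=
      (IsPGroup.of_injective hSS (G'.subtype.comp L.subtype)
        (fun x y e => Subtype.ext (Subtype.ext e)))
    obtain ⟨l, hl⟩ := IsPGroup.iff_card.1 hLp
    have h1 := L.card_mul_index
    rw [show Nat.card G' = Nat.card (Subgroup.centralizer ({i} : Set S)) * Nat.card S by
      rw [Nat.card_congr (Subgroup.prodEquiv _ _).toEquiv, Nat.card_prod, Subgroup.card_top],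
      ha, hl] at h1
    rw [ha, hl] at hlt
    have hle' : l + 1 ≤ a := (Nat.pow_lt_pow_iff_right (by norm_num)).1 hlt
    obtain ⟨d, rfl⟩ := Nat.le.dest hle'
    refine ⟨2 ^ d, Nat.eq_of_mul_eq_mul_left (pow_pos two_pos l) ?_⟩
    rw [h1, pow_add, pow_add]; ring
  obtain ⟨k, hk⟩ := hdvd
  have hfix : Fintype.card (Function.fixedPoints σ) = 4 * k := by
    refine Nat.eq_of_mul_eq_mul_right (Nat.card_pos (α := T)) ?_
    rw [← hY, hk, hST]; ring
  show Equiv.Perm.sign σ = -1
  rw [Equiv.Perm.sign_of_pow_two_eq_one hσ, hWc, hfix, show (2 * m - 4 * k) / 2 = m - 2 * k by omega]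
  refine Odd.neg_one_pow ?_
  have hle := Fintype.card_subtype_le (fun w => σ w = w)
  rw [Nat.odd_iff]
  have : Fintype.card (Function.fixedPoints σ) ≤ 2 * m := hWc ▸ Fintype.card_subtype_le _
  omega

end Cfsg.Agent.Lib.FusionTransfer
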